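import Groth.Agent.CSA.AzumayaFibre
import Groth.Agent.CSA.Centraliser
import Groth.Agent.OTLib.Frame
import Groth.Prelude.Def_W4c4lgringredgrpLG
import Mathlib

/-!
# Modules over algebras over LG-rings: fibrewise isomorphic modules are isomorphic
-/

namespace Groth.Agent.LGLib

universe u v w

open TensorProduct

/-- A surjection between fibres with a section. -/
theorem exists_fibre_surj (k : Type u) [Field k] (B : Type v) [Ring B] [Algebra k B] [IsSimpleRing B]
    [FiniteDimensional k B] (M : Type w) (N : Type w) [AddCommGroup M] [Module k M] [Module B M]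
    [IsScalarTower k B M] [FiniteDimensional k M] [AddCommGroup N] [Module k N] [Module B N]
    [IsScalarTower k B N] [FiniteDimensional k N] (h : Module.finrank k N ≤ Module.finrank k M) :
    ∃ (F : M →ₗ[B] N) (G : N →ₗ[B] M), ∀ x, F (G x) = x := by
  rcases subsingleton_or_nontrivial N with hN | hN
  · exact ⟨0, 0, fun _ => Subsingleton.elim _ _⟩
  have hN0 : 0 < Module.finrank k N := Module.finrank_pos
  have : Nontrivial M := Module.nontrivial_of_finrank_pos (R := k) (hN0.trans_le h)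
  obtain ⟨m, hm, S, hS, ⟨e⟩⟩ := Groth.Agent.CSA.exists_linearEquiv_pi k B M
  obtain ⟨n, hn, T, hT, ⟨e'⟩⟩ := Groth.Agent.CSA.exists_linearEquiv_pi k B N
  obtain ⟨f⟩ := Groth.Agent.CSA.nonempty_linearEquiv_of_isSimpleModule k B S T
  have : FiniteDimensional k S := FiniteDimensional.of_injective (S.subtype.restrictScalars k)
    Subtype.val_injective
  have : FiniteDimensional k T := FiniteDimensional.of_injective (T.subtype.restrictScalars k)
    Subtype.val_injective
  have h1 := (e.restrictScalars k).finrank_eq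
  have h2 := (e'.restrictScalars k).finrank_eq
  rw [Module.finrank_pi_fintype, Finset.sum_const, Finset.card_univ, Fintype.card_fin,
    smul_eq_mul] at h1 h2
  rw [← (f.restrictScalars k).finrank_eq] at h2
  have : Nontrivial S := IsSimpleModule.nontrivial B S
  have hS0 : 0 < Module.finrank k S := Module.finrank_pos
  have hnm : n ≤ m := Nat.le_of_mul_le_mul_right (by rw [← h1, ← h2]; exact h) hS0
  let E' : N ≃ₗ[B] (Fin n → S) := e'.trans (LinearEquiv.piCongrRight fun _ => f.symm)
  let pr : (Fin m → S) →ₗ[B] (Fin n → S) := LinearMap.funLeft B S (Fin.castLE hnm)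
  let ext' : (Fin n → S) →ₗ[B] (Fin m → S) :=
    LinearMap.pi fun i => if hi : i.val < n then LinearMap.proj ⟨i.val, hi⟩ else 0
  refine ⟨E'.symm.toLinearMap.comp (pr.comp e.toLinearMap),
    e.symm.toLinearMap.comp (ext'.comp E'.toLinearMap), fun x => ?_⟩
  simp only [LinearMap.comp_apply, LinearEquiv.coe_coe, LinearEquiv.apply_symm_apply]
  rw [show pr (ext' (E' x)) = E' x from funext fun i => by simp [pr, ext', LinearMap.funLeft],
    LinearEquiv.symm_apply_apply]

variable {R : Type u} [CommRing R] {A : Type v} [Ring A] [Algebra R A]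

theorem projective_restrict [Module.Projective R A] (N : Type w) [AddCommGroup N] [Module A N] [Module R N]
    [IsScalarTower R A N] [Module.Finite A N] [Module.Projective A N] : Module.Projective R N := by
  obtain ⟨n, f, g, -, -, hfg⟩ := Module.Finite.exists_comp_eq_id_of_projective A N
  haveI : Module.Projective R (Fin n → A) :=
    Module.Projective.of_equiv (TensorProduct.piScalarRight R R A (Fin n))
  exact Module.Projective.of_split (g.restrictScalars R) (f.restrictScalars R)
    (LinearMap.ext fun x => LinearMap.congr_fun hfg x)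

/-- Finite generation of spaces of linear maps. -/
theorem exists_gens [Module.Finite R A] (M N : Type w) [AddCommGroup M] [Module A M] [Module R M]
    [IsScalarTower R A M] [Module.Finite A M] [Module.Projective A M] [AddCommGroup N] [Module A N] [Module R N]
    [IsScalarTower R A N] [Module.Finite A N] :
    ∃ (p : ℕ) (F : Fin p → M →ₗ[A] N), ∀ h : M →ₗ[A] N, ∃ s : Fin p → R, ∀ x, h x = ∑ a, s a • F a x := by
  classical
  haveI : Module.Finite R N := Module.Finite.trans A N
  obtain ⟨n, f, g, -, -, hfg⟩ := Module.Finite.exists_comp_eq_id_of_projective A M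
  obtain ⟨l, y, hy⟩ := Module.Finite.exists_fin (R := R) (M := N)
  let F₀ : Fin n × Fin l → M →ₗ[A] N := fun ab =>
    ((LinearMap.proj ab.1 : (Fin n → A) →ₗ[A] A).comp g).smulRight (y ab.2)
  let e := (Fintype.equivFin (Fin n × Fin l)).symm
  refine ⟨_, fun a => F₀ (e a), fun h => ?_⟩
  choose c hc using fun a : Fin n => (Submodule.mem_span_range_iff_exists_fun R).1
    (hy ▸ Submodule.mem_top : h (f (Pi.single a 1)) ∈ Submodule.span R (Set.range y))
  refine ⟨fun a => c (e a).1 (e a).2, fun x => ?_⟩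
  rw [Equiv.sum_comp e (fun ab : Fin n × Fin l => c ab.1 ab.2 • F₀ ab x), Fintype.sum_prod_type]
  have hx : x = f (g x) := (LinearMap.congr_fun hfg x).symm
  have hb : g x = ∑ a, (g x a) • (Pi.single a (1 : A) : Fin n → A) := by
    ext j
    simp [Pi.single_apply]
  conv_lhs => rw [hx, hb, map_sum, map_sum]
  refine Finset.sum_congr rfl fun a _ => ?_
  rw [map_smul, map_smul, ← hc a, Finset.smul_sum]
  refine Finset.sum_congr rfl fun b _ => ?_
  show g x a • (c a b • y b) = c a b • (g x a • y b)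
  rw [← algebraMap_smul A (c a b) (y b), smul_smul, ← Algebra.commutes, ← smul_smul, algebraMap_smul]

/-- Lifting surjections of fibres. -/
theorem exists_lift [IsAzumaya R A] (m : Ideal R) [m.IsMaximal] (M N : Type w) [AddCommGroup M] [Module A M]
    [Module R M] [IsScalarTower R A M] [Module.Finite A M] [Module.Projective A M] [AddCommGroup N] [Module A N]
    [Module R N] [IsScalarTower R A N] [Module.Finite A N] [Module.Projective A N]
    (h : ∀ p : PrimeSpectrum R, Module.rankAtStalk N p ≤ Module.rankAtStalk M p) :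
    ∃ (f : M →ₗ[A] N) (g : N →ₗ[A] M), ∀ x, (1 : R ⧸ m) ⊗ₜ[R] (f (g x) - x) = 0 := by
  letI : Field (R ⧸ m) := Ideal.Quotient.field m
  haveI : Module.Finite R M := Module.Finite.trans A M
  haveI : Module.Finite R N := Module.Finite.trans A N
  haveI := projective_restrict (R := R) (A := A) M
  haveI := projective_restrict (R := R) (A := A) N
  haveI := Groth.Agent.CSA.Azu.isAzumaya_baseChange (R := R) (R ⧸ m) A
  haveI : IsSimpleRing ((R ⧸ m) ⊗[R] A) :=
    ((Groth.Agent.CSA.Azu.isAzumaya_iff_central_simple (R ⧸ m) ((R ⧸ m) ⊗[R] A)).1 inferInstance).2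
  have hP : ∀ (X : Type w) [AddCommGroup X] [Module R X] [Module.Finite R X] [Module.Projective R X],
      Module.finrank (R ⧸ m) ((R ⧸ m) ⊗[R] X) = Module.rankAtStalk X ⟨m, inferInstance⟩ := by
    intro X _ _ _ _
    let P : PrimeSpectrum (R ⧸ m) := ⟨⊥, Ideal.isPrime_bot⟩
    have h1 := congr_fun (Module.rankAtStalk_eq_finrank_of_free (R := R ⧸ m) (M := (R ⧸ m) ⊗[R] X)) P
    rw [Module.rankAtStalk_baseChange] at h1
    simp only [Pi.natCast_apply, Nat.cast_id] at h1
    rw [← h1]
    congr 1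
    exact PrimeSpectrum.ext (by simp [P, ← RingHom.ker_eq_comap_bot])
  let act : ∀ (X : Type w) [AddCommGroup X] [Module A X] [Module R X] [IsScalarTower R A X],
      (R ⧸ m) ⊗[R] A →ₐ[R ⧸ m] Module.End (R ⧸ m) ((R ⧸ m) ⊗[R] X) := fun X _ _ _ _ =>
    Algebra.TensorProduct.lift (Algebra.ofId _ _)
      (((Module.End.baseChangeHom R (R ⧸ m) X).comp (Algebra.lsmul R R X : A →ₐ[R] Module.End R X)))
      (fun c a => Algebra.commutes c _)
  letI : Module ((R ⧸ m) ⊗[R] A) ((R ⧸ m) ⊗[R] M) := Module.compHom _ (act M).toRingHom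
  letI : Module ((R ⧸ m) ⊗[R] A) ((R ⧸ m) ⊗[R] N) := Module.compHom _ (act N).toRingHom
  haveI : IsScalarTower (R ⧸ m) ((R ⧸ m) ⊗[R] A) ((R ⧸ m) ⊗[R] M) := ⟨fun c b x => by
    show act M (c • b) x = c • act M b x
    rw [map_smul, LinearMap.smul_apply]⟩
  haveI : IsScalarTower (R ⧸ m) ((R ⧸ m) ⊗[R] A) ((R ⧸ m) ⊗[R] N) := ⟨fun c b x => by
    show act N (c • b) x = c • act N b x
    rw [map_smul, LinearMap.smul_apply]⟩
  obtain ⟨F, G, hFG⟩ := exists_fibre_surj (R ⧸ m) ((R ⧸ m) ⊗[R] A) ((R ⧸ m) ⊗[R] M) ((R ⧸ m) ⊗[R] N)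
    (by rw [hP, hP]; exact h _)
  let inc : A →+* (R ⧸ m) ⊗[R] A :=
    (Algebra.TensorProduct.includeRight : A →ₐ[R] (R ⧸ m) ⊗[R] A).toRingHom
  letI : Module A ((R ⧸ m) ⊗[R] M) := Module.compHom _ inc
  letI : Module A ((R ⧸ m) ⊗[R] N) := Module.compHom _ inc
  have hq : ∀ (X : Type w) [AddCommGroup X] [Module A X] [Module R X] [IsScalarTower R A X] (a : A) (x : X),
      (1 : R ⧸ m) ⊗ₜ[R] (a • x) = act X ((1 : R ⧸ m) ⊗ₜ[R] a) ((1 : R ⧸ m) ⊗ₜ[R] x) := fun X _ _ _ _ a x => by
    simp only [act, Algebra.TensorProduct.lift_tmul, map_one, one_mul]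
    rfl
  let qM : M →ₗ[A] (R ⧸ m) ⊗[R] M :=
    { toFun := fun x => (1 : R ⧸ m) ⊗ₜ[R] x
      map_add' := TensorProduct.tmul_add _
      map_smul' := hq M }
  let qN : N →ₗ[A] (R ⧸ m) ⊗[R] N :=
    { toFun := fun x => (1 : R ⧸ m) ⊗ₜ[R] x
      map_add' := TensorProduct.tmul_add _
      map_smul' := hq N }
  let F' : (R ⧸ m) ⊗[R] M →ₗ[A] (R ⧸ m) ⊗[R] N :=
    { toFun := F, map_add' := map_add F, map_smul' := fun a x => map_smul F (inc a) x }
  let G' : (R ⧸ m) ⊗[R] N →ₗ[A] (R ⧸ m) ⊗[R] M :=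
    { toFun := G, map_add' := map_add G, map_smul' := fun a x => map_smul G (inc a) x }
  obtain ⟨f, hf⟩ := Module.projective_lifting_property qN (F'.comp qM)
    (TensorProduct.mk_surjective R N (R ⧸ m) Ideal.Quotient.mk_surjective)
  obtain ⟨g, hg⟩ := Module.projective_lifting_property qM (G'.comp qN)
    (TensorProduct.mk_surjective R M (R ⧸ m) Ideal.Quotient.mk_surjective)
  refine ⟨f, g, fun x => ?_⟩
  rw [TensorProduct.tmul_sub, sub_eq_zero]
  have e1 : qN (f (g x)) = F (qM (g x)) := LinearMap.congr_fun hf (g x)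
  have e2 : qM (g x) = G (qN x) := LinearMap.congr_fun hg x
  rw [e2, hFG] at e1
  exact e1



/-- Lifting isomorphisms of fibres. -/
theorem exists_lift_equiv [IsAzumaya R A] (m : Ideal R) [m.IsMaximal] (M N : Type w) [AddCommGroup M] [Module A M]
    [Module R M] [IsScalarTower R A M] [Module.Finite A M] [Module.Projective A M] [AddCommGroup N] [Module A N]
    [Module R N] [IsScalarTower R A N] [Module.Finite A N] [Module.Projective A N]
    (h : Module.rankAtStalk N ⟨m, inferInstance⟩ = Module.rankAtStalk M ⟨m, inferInstance⟩) :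
    ∃ (f : M →ₗ[A] N) (g : N →ₗ[A] M), (∀ x, (1 : R ⧸ m) ⊗ₜ[R] (f (g x) - x) = 0) ∧
      ∀ y, (1 : R ⧸ m) ⊗ₜ[R] (g (f y) - y) = 0 := by
  letI : Field (R ⧸ m) := Ideal.Quotient.field m
  haveI : Module.Finite R M := Module.Finite.trans A M
  haveI : Module.Finite R N := Module.Finite.trans A N
  haveI := projective_restrict (R := R) (A := A) M
  haveI := projective_restrict (R := R) (A := A) N
  haveI := Groth.Agent.CSA.Azu.isAzumaya_baseChange (R := R) (R ⧸ m) A
  haveI : IsSimpleRing ((R ⧸ m) ⊗[R] A) :=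
    ((Groth.Agent.CSA.Azu.isAzumaya_iff_central_simple (R ⧸ m) ((R ⧸ m) ⊗[R] A)).1 inferInstance).2
  have hP : ∀ (X : Type w) [AddCommGroup X] [Module R X] [Module.Finite R X] [Module.Projective R X],
      Module.finrank (R ⧸ m) ((R ⧸ m) ⊗[R] X) = Module.rankAtStalk X ⟨m, inferInstance⟩ := by
    intro X _ _ _ _
    let P : PrimeSpectrum (R ⧸ m) := ⟨⊥, Ideal.isPrime_bot⟩
    have h1 := congr_fun (Module.rankAtStalk_eq_finrank_of_free (R := R ⧸ m) (M := (R ⧸ m) ⊗[R] X)) P
    rw [Module.rankAtStalk_baseChange] at h1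
    simp only [Pi.natCast_apply, Nat.cast_id] at h1
    rw [← h1]
    congr 1
    exact PrimeSpectrum.ext (by simp [P, ← RingHom.ker_eq_comap_bot])
  let act : ∀ (X : Type w) [AddCommGroup X] [Module A X] [Module R X] [IsScalarTower R A X],
      (R ⧸ m) ⊗[R] A →ₐ[R ⧸ m] Module.End (R ⧸ m) ((R ⧸ m) ⊗[R] X) := fun X _ _ _ _ =>
    Algebra.TensorProduct.lift (Algebra.ofId _ _)
      (((Module.End.baseChangeHom R (R ⧸ m) X).comp (Algebra.lsmul R R X : A →ₐ[R] Module.End R X)))
      (fun c a => Algebra.commutes c _)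
  letI : Module ((R ⧸ m) ⊗[R] A) ((R ⧸ m) ⊗[R] M) := Module.compHom _ (act M).toRingHom
  letI : Module ((R ⧸ m) ⊗[R] A) ((R ⧸ m) ⊗[R] N) := Module.compHom _ (act N).toRingHom
  haveI : IsScalarTower (R ⧸ m) ((R ⧸ m) ⊗[R] A) ((R ⧸ m) ⊗[R] M) := ⟨fun c b x => by
    show act M (c • b) x = c • act M b x
    rw [map_smul, LinearMap.smul_apply]⟩
  haveI : IsScalarTower (R ⧸ m) ((R ⧸ m) ⊗[R] A) ((R ⧸ m) ⊗[R] N) := ⟨fun c b x => by
    show act N (c • b) x = c • act N b x
    rw [map_smul, LinearMap.smul_apply]⟩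
  obtain ⟨e⟩ := Groth.Agent.CSA.nonempty_linearEquiv_of_finrank_eq (R ⧸ m) ((R ⧸ m) ⊗[R] A)
    ((R ⧸ m) ⊗[R] M) ((R ⧸ m) ⊗[R] N) (by rw [hP, hP]; exact h.symm)
  let F := e.toLinearMap
  let G := e.symm.toLinearMap
  have hFG : ∀ x, F (G x) = x := e.apply_symm_apply
  have hGF : ∀ x, G (F x) = x := e.symm_apply_apply
  let inc : A →+* (R ⧸ m) ⊗[R] A :=
    (Algebra.TensorProduct.includeRight : A →ₐ[R] (R ⧸ m) ⊗[R] A).toRingHom
  letI : Module A ((R ⧸ m) ⊗[R] M) := Module.compHom _ inc
  letI : Module A ((R ⧸ m) ⊗[R] N) := Module.compHom _ inc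
  have hq : ∀ (X : Type w) [AddCommGroup X] [Module A X] [Module R X] [IsScalarTower R A X] (a : A) (x : X),
      (1 : R ⧸ m) ⊗ₜ[R] (a • x) = act X ((1 : R ⧸ m) ⊗ₜ[R] a) ((1 : R ⧸ m) ⊗ₜ[R] x) := fun X _ _ _ _ a x => by
    simp only [act, Algebra.TensorProduct.lift_tmul, map_one, one_mul]
    rfl
  let qM : M →ₗ[A] (R ⧸ m) ⊗[R] M :=
    { toFun := fun x => (1 : R ⧸ m) ⊗ₜ[R] x
      map_add' := TensorProduct.tmul_add _
      map_smul' := hq M }
  let qN : N →ₗ[A] (R ⧸ m) ⊗[R] N :=
    { toFun := fun x => (1 : R ⧸ m) ⊗ₜ[R] x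
      map_add' := TensorProduct.tmul_add _
      map_smul' := hq N }
  let F' : (R ⧸ m) ⊗[R] M →ₗ[A] (R ⧸ m) ⊗[R] N :=
    { toFun := F, map_add' := map_add F, map_smul' := fun a x => map_smul F (inc a) x }
  let G' : (R ⧸ m) ⊗[R] N →ₗ[A] (R ⧸ m) ⊗[R] M :=
    { toFun := G, map_add' := map_add G, map_smul' := fun a x => map_smul G (inc a) x }
  obtain ⟨f, hf⟩ := Module.projective_lifting_property qN (F'.comp qM)
    (TensorProduct.mk_surjective R N (R ⧸ m) Ideal.Quotient.mk_surjective)
  obtain ⟨g, hg⟩ := Module.projective_lifting_property qM (G'.comp qN)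
    (TensorProduct.mk_surjective R M (R ⧸ m) Ideal.Quotient.mk_surjective)
  refine ⟨f, g, fun x => ?_, fun x => ?_⟩
  · rw [TensorProduct.tmul_sub, sub_eq_zero]
    have e1 : qN (f (g x)) = F (qM (g x)) := LinearMap.congr_fun hf (g x)
    have e2 : qM (g x) = G (qN x) := LinearMap.congr_fun hg x
    rw [e2, hFG] at e1
    exact e1
  · rw [TensorProduct.tmul_sub, sub_eq_zero]
    have e1 : qM (g (f x)) = G (qN (f x)) := LinearMap.congr_fun hg (f x)
    have e2 : qN (f x) = F (qM x) := LinearMap.congr_fun hf x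
    rw [e2, hGF] at e1
    exact e1

/-- The matrix of an endomorphism of a summand of a free module, completed by the identity. -/
noncomputable def matOf {X : Type w} [AddCommGroup X] [Module R X] {r : ℕ} (π : (Fin r → R) →ₗ[R] X)
    (ι : X →ₗ[R] Fin r → R) : (X →ₗ[R] X) →ₗ[R] Matrix (Fin r) (Fin r) R :=
  LinearMap.toMatrix'.toLinearMap.comp ((π.lcomp R (Fin r → R)).comp (ι.compRight R))

theorem bijective_of_isUnit {X : Type w} [AddCommGroup X] [Module R X] {r : ℕ} (π : (Fin r → R) →ₗ[R] X)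
    (ι : X →ₗ[R] Fin r → R) (hπι : ∀ x, π (ι x) = x) (φ : X →ₗ[R] X)
    (hu : IsUnit (1 - matOf π ι LinearMap.id + matOf π ι φ).det) : Function.Bijective φ := by
  set E : Matrix (Fin r) (Fin r) R := 1 - matOf π ι LinearMap.id + matOf π ι φ
  have hE : ∀ v, Matrix.toLin' E v = v - ι (π v) + ι (φ (π v)) := fun v => by
    simp [E, matOf, Matrix.toLin'_one, map_add, map_sub]
  have hb : Function.Bijective (Matrix.toLin' E) := by
    refine ⟨fun a b hab => ?_, fun v => ⟨Matrix.mulVec E⁻¹ v, ?_⟩⟩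
    · rw [Matrix.toLin'_apply, Matrix.toLin'_apply] at hab
      have := congrArg (Matrix.mulVec E⁻¹) hab
      rwa [Matrix.mulVec_mulVec, Matrix.mulVec_mulVec, Matrix.nonsing_inv_mul _ hu, Matrix.one_mulVec,
        Matrix.one_mulVec] at this
    · rw [Matrix.toLin'_apply, Matrix.mulVec_mulVec, Matrix.mul_nonsing_inv _ hu, Matrix.one_mulVec]
  refine ⟨(injective_iff_map_eq_zero φ).2 fun x hx => ?_, fun y => ?_⟩
  · have h0 : Matrix.toLin' E (ι x) = 0 := by rw [hE, hπι, hx, map_zero, add_zero, sub_self]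
    rw [← hπι x, hb.1 (h0.trans (map_zero _).symm), map_zero]
  · obtain ⟨v, hv⟩ := hb.2 (ι y)
    refine ⟨π v, ?_⟩
    have h1 := congrArg π hv
    rw [hE, map_add, map_sub, hπι, hπι, hπι, sub_self, zero_add] at h1
    exact h1

theorem map_eq_one {X : Type w} [AddCommGroup X] [Module R X] {r : ℕ} (π : (Fin r → R) →ₗ[R] X)
    (ι : X →ₗ[R] Fin r → R) (φ : X →ₗ[R] X) (m : Ideal R) (h : ∀ x, (1 : R ⧸ m) ⊗ₜ[R] (φ x - x) = 0) :
    (1 - matOf π ι LinearMap.id + matOf π ι φ).map (algebraMap R (R ⧸ m)) = 1 := by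
  refine Matrix.ext fun i j => ?_
  have key : algebraMap R (R ⧸ m) (ι (φ (π (Pi.single j 1)) - π (Pi.single j 1)) i) = 0 := by
    have h0 := congrArg (fun z => TensorProduct.rid R (R ⧸ m)
      (((LinearMap.proj i).comp ι).lTensor (R ⧸ m) z)) (h (π (Pi.single j 1)))
    simpa [Algebra.smul_def] using h0
  rw [map_sub, Pi.sub_apply, map_sub, sub_eq_zero] at key
  simp only [matOf, Matrix.map_apply, Matrix.add_apply, Matrix.sub_apply, LinearMap.comp_apply,
    LinearEquiv.coe_coe, LinearMap.toMatrix'_apply, LinearMap.compRight_apply, LinearMap.lcomp_apply,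
    LinearMap.id_apply, map_add, map_sub, key, sub_add_cancel]
  rw [Matrix.one_apply, Matrix.one_apply]
  split_ifs <;> simp

/-- Fibrewise isomorphic modules over an LG-ring are isomorphic. -/
theorem equiv_of_rank (hR : LGRing.IsLGRing R) [IsAzumaya R A] (M N : Type w) [AddCommGroup M] [Module A M]
    [Module R M] [IsScalarTower R A M] [Module.Finite A M] [Module.Projective A M] [AddCommGroup N] [Module A N]
    [Module R N] [IsScalarTower R A N] [Module.Finite A N] [Module.Projective A N]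
    (h : ∀ (m : Ideal R) [m.IsMaximal],
      Module.rankAtStalk N ⟨m, inferInstance⟩ = Module.rankAtStalk M ⟨m, inferInstance⟩) :
    Nonempty (M ≃ₗ[A] N) := by
  classical
  haveI : Module.Finite R M := Module.Finite.trans A M
  haveI : Module.Finite R N := Module.Finite.trans A N
  haveI := projective_restrict (R := R) (A := A) M
  haveI := projective_restrict (R := R) (A := A) N
  obtain ⟨p, F, hF⟩ := exists_gens (R := R) (A := A) M N
  obtain ⟨q, G, hG⟩ := exists_gens (R := R) (A := A) N M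
  obtain ⟨r, π, ι, -, -, hπι⟩ := Module.Finite.exists_comp_eq_id_of_projective R N
  obtain ⟨r', π', ι', -, -, hπι'⟩ := Module.Finite.exists_comp_eq_id_of_projective R M
  let a₀ : Fin p → Fin (p + q) := Fin.castAdd q
  let b₀ : Fin q → Fin (p + q) := Fin.natAdd p
  let P : Matrix (Fin r) (Fin r) (MvPolynomial (Fin (p + q)) R) :=
    (1 - matOf π ι LinearMap.id).map (MvPolynomial.C : R →+* MvPolynomial (Fin (p + q)) R) +
      ∑ a, ∑ b, (MvPolynomial.X (a₀ a) * MvPolynomial.X (b₀ b) : MvPolynomial (Fin (p + q)) R) •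
        (matOf π ι ((F a).restrictScalars R ∘ₗ (G b).restrictScalars R)).map
          (MvPolynomial.C : R →+* MvPolynomial (Fin (p + q)) R)
  let P' : Matrix (Fin r') (Fin r') (MvPolynomial (Fin (p + q)) R) :=
    (1 - matOf π' ι' LinearMap.id).map (MvPolynomial.C : R →+* MvPolynomial (Fin (p + q)) R) +
      ∑ a, ∑ b, (MvPolynomial.X (a₀ a) * MvPolynomial.X (b₀ b) : MvPolynomial (Fin (p + q)) R) •
        (matOf π' ι' ((G b).restrictScalars R ∘ₗ (F a).restrictScalars R)).map
          (MvPolynomial.C : R →+* MvPolynomial (Fin (p + q)) R)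
  have heval : ∀ (S : Type u) [CommRing S] [Algebra R S] (s : Fin (p + q) → R),
      MvPolynomial.aeval (fun i => algebraMap R S (s i)) (P.det * P'.det) =
        ((1 - matOf π ι LinearMap.id + matOf π ι (∑ a, ∑ b, (s (a₀ a) * s (b₀ b)) •
          ((F a).restrictScalars R ∘ₗ (G b).restrictScalars R))).map (algebraMap R S)).det *
        ((1 - matOf π' ι' LinearMap.id + matOf π' ι' (∑ a, ∑ b, (s (a₀ a) * s (b₀ b)) •
          ((G b).restrictScalars R ∘ₗ (F a).restrictScalars R))).map (algebraMap R S)).det := by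
    intro S _ _ s
    rw [map_mul, AlgHom.map_det, AlgHom.map_det]
    congr 2 <;> refine Matrix.ext fun i j => ?_
    · simp [P, map_sum, Matrix.sum_apply]
    · simp [P', map_sum, Matrix.sum_apply]
  have hsum : ∀ s : Fin (p + q) → R,
      (∑ a, ∑ b, (s (a₀ a) * s (b₀ b)) • ((F a).restrictScalars R ∘ₗ (G b).restrictScalars R)) =
        (∑ a, s (a₀ a) • (F a).restrictScalars R) ∘ₗ (∑ b, s (b₀ b) • (G b).restrictScalars R) ∧
      (∑ a, ∑ b, (s (a₀ a) * s (b₀ b)) • ((G b).restrictScalars R ∘ₗ (F a).restrictScalars R)) =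
        (∑ b, s (b₀ b) • (G b).restrictScalars R) ∘ₗ (∑ a, s (a₀ a) • (F a).restrictScalars R) := by
    intro s
    constructor <;> refine LinearMap.ext fun x => ?_ <;>
      simp only [LinearMap.comp_apply, LinearMap.sum_apply, LinearMap.smul_apply, map_sum, map_smul,
        Finset.smul_sum, smul_smul]
    rw [Finset.sum_comm]
    exact Finset.sum_congr rfl fun a _ => Finset.sum_congr rfl fun b _ => by rw [mul_comm]
  obtain ⟨s, hs⟩ := hR (p + q) (P.det * P'.det) fun m hm => by
    obtain ⟨f, g, hfg, hgf⟩ := exists_lift_equiv (A := A) m M N (h m)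
    obtain ⟨s₁, hs₁⟩ := hF f
    obtain ⟨s₂, hs₂⟩ := hG g
    refine ⟨fun i => algebraMap R (R ⧸ m) (Fin.append s₁ s₂ i), ?_⟩
    have ef : (∑ a, Fin.append s₁ s₂ (a₀ a) • (F a).restrictScalars R) = f.restrictScalars R :=
      LinearMap.ext fun x => by simp [a₀, hs₁]
    have eg : (∑ b, Fin.append s₁ s₂ (b₀ b) • (G b).restrictScalars R) = g.restrictScalars R :=
      LinearMap.ext fun x => by simp [b₀, hs₂]
    rw [heval, (hsum _).1, (hsum _).2, ef, eg, map_eq_one π ι _ m (fun x => hfg x),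
      map_eq_one π' ι' _ m (fun x => hgf x), Matrix.det_one, Matrix.det_one, one_mul]
    exact isUnit_one
  have hu := heval R s
  simp only [Algebra.algebraMap_self, RingHom.id_apply] at hu
  rw [hu, (hsum s).1, (hsum s).2, IsUnit.mul_iff] at hs
  have b₁ := bijective_of_isUnit π ι (LinearMap.congr_fun hπι) _ (by simpa using hs.1)
  have b₂ := bijective_of_isUnit π' ι' (LinearMap.congr_fun hπι') _ (by simpa using hs.2)
  let f : M →ₗ[A] N :=
    { (∑ a, s (a₀ a) • (F a).restrictScalars R : M →ₗ[R] N) with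
      map_smul' := fun c x => by
        show (∑ a, s (a₀ a) • (F a).restrictScalars R) (c • x) =
          c • (∑ a, s (a₀ a) • (F a).restrictScalars R) x
        simp only [LinearMap.sum_apply, LinearMap.smul_apply, LinearMap.coe_restrictScalars, map_smul,
          Finset.smul_sum]
        refine Finset.sum_congr rfl fun a _ => ?_
        rw [← algebraMap_smul A (s (a₀ a)), smul_smul, Algebra.commutes, ← smul_smul, algebraMap_smul] }
  exact ⟨LinearEquiv.ofBijective f
    ⟨fun x y hxy => b₂.1 (congrArg (fun z => (∑ b, s (b₀ b) • (G b).restrictScalars R) z) hxy),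
      fun y => by obtain ⟨x, hx⟩ := b₁.2 y; exact ⟨_, hx⟩⟩⟩

/-- Surjections from rank inequalities over an LG-ring. -/
theorem exists_surj (hR : LGRing.IsLGRing R) [IsAzumaya R A] (M N : Type w) [AddCommGroup M] [Module A M]
    [Module R M] [IsScalarTower R A M] [Module.Finite A M] [Module.Projective A M] [AddCommGroup N] [Module A N]
    [Module R N] [IsScalarTower R A N] [Module.Finite A N] [Module.Projective A N]
    (h : ∀ p : PrimeSpectrum R, Module.rankAtStalk N p ≤ Module.rankAtStalk M p) :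
    ∃ f : M →ₗ[A] N, Function.Surjective f := by
  classical
  haveI : Module.Finite R M := Module.Finite.trans A M
  haveI : Module.Finite R N := Module.Finite.trans A N
  haveI := projective_restrict (R := R) (A := A) N
  obtain ⟨p, F, hF⟩ := exists_gens (R := R) (A := A) M N
  obtain ⟨q, G, hG⟩ := exists_gens (R := R) (A := A) N M
  obtain ⟨r, π, ι, -, -, hπι⟩ := Module.Finite.exists_comp_eq_id_of_projective R N
  let EN : (N →ₗ[R] N) → Matrix (Fin r) (Fin r) R := fun φ => LinearMap.toMatrix' (ι.comp (φ.comp π))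
  let C₀ : Matrix (Fin r) (Fin r) R := 1 - EN LinearMap.id
  let P : Matrix (Fin r) (Fin r) (MvPolynomial (Fin (p + q)) R) :=
    C₀.map (MvPolynomial.C : R →+* MvPolynomial (Fin (p + q)) R) + ∑ a, ∑ b, (MvPolynomial.X (Fin.castAdd q a) * MvPolynomial.X (Fin.natAdd p b) : MvPolynomial (Fin (p + q)) R) •
      (EN ((F a).restrictScalars R ∘ₗ (G b).restrictScalars R)).map (MvPolynomial.C : R →+* MvPolynomial (Fin (p + q)) R)
  have heval : ∀ (S : Type u) [CommRing S] [Algebra R S] (s : Fin (p + q) → R),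
      MvPolynomial.aeval (fun i => algebraMap R S (s i)) P.det =
        ((C₀ + EN (∑ a, ∑ b, (s (Fin.castAdd q a) * s (Fin.natAdd p b)) •
          ((F a).restrictScalars R ∘ₗ (G b).restrictScalars R))).map (algebraMap R S)).det := by
    intro S _ _ s
    rw [AlgHom.map_det]
    congr 1
    refine Matrix.ext fun i j => ?_
    simp [P, EN, Matrix.sum_apply, LinearMap.toMatrix'_apply, map_sum]
  obtain ⟨s, hs⟩ := hR (p + q) P.det fun m hm => by
    obtain ⟨f, g, hfg⟩ := exists_lift (A := A) m M N h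
    obtain ⟨s₁, hs₁⟩ := hF f
    obtain ⟨s₂, hs₂⟩ := hG g
    refine ⟨fun i => algebraMap R (R ⧸ m) (Fin.append s₁ s₂ i), ?_⟩
    rw [heval]
    have e : (∑ a, ∑ b, (Fin.append s₁ s₂ (Fin.castAdd q a) * Fin.append s₁ s₂ (Fin.natAdd p b)) •
        ((F a).restrictScalars R ∘ₗ (G b).restrictScalars R)) = f.restrictScalars R ∘ₗ g.restrictScalars R := by
      refine LinearMap.ext fun x => ?_
      simp only [Fin.append_left, Fin.append_right, LinearMap.sum_apply, LinearMap.smul_apply,
        LinearMap.comp_apply, LinearMap.coe_restrictScalars]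
      rw [hs₁]
      refine Finset.sum_congr rfl fun a _ => ?_
      rw [hs₂, map_sum, Finset.smul_sum]
      refine Finset.sum_congr rfl fun b _ => ?_
      rw [LinearMap.map_smul_of_tower, smul_smul]
    rw [e, show (C₀ + EN (f.restrictScalars R ∘ₗ g.restrictScalars R)).map (algebraMap R (R ⧸ m)) = 1 from ?_,
      Matrix.det_one]
    · exact isUnit_one
    refine Matrix.ext fun i j => ?_
    have key : algebraMap R (R ⧸ m) (ι (f (g (π (Pi.single j 1))) - π (Pi.single j 1)) i) = 0 := by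
      have h0 := congrArg (fun z => TensorProduct.rid R (R ⧸ m)
        (((LinearMap.proj i).comp ι).lTensor (R ⧸ m) z)) (hfg (π (Pi.single j 1)))
      simpa [Algebra.smul_def] using h0
    rw [map_sub, Pi.sub_apply, map_sub, sub_eq_zero] at key
    simp only [C₀, EN, Matrix.map_apply, Matrix.add_apply, Matrix.sub_apply, LinearMap.toMatrix'_apply,
      LinearMap.comp_apply, LinearMap.id_apply, LinearMap.coe_restrictScalars, map_add, map_sub, key,
      sub_add_cancel]
    rw [Matrix.one_apply, Matrix.one_apply]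
    split_ifs <;> simp
  have hu := heval R s
  simp only [Algebra.algebraMap_self, RingHom.id_apply] at hu
  rw [hu] at hs
  let Φ : N →ₗ[R] N := ∑ a, ∑ b, (s (Fin.castAdd q a) * s (Fin.natAdd p b)) •
    ((F a).restrictScalars R ∘ₗ (G b).restrictScalars R)
  refine ⟨∑ a, (LinearMap.mk (F a).toAddHom (F a).map_smul' : M →ₗ[A] N).comp
    (DistribSMul.toLinearMap A M (s (Fin.castAdd q a))), fun y => ?_⟩
  have hy : ∃ x, Φ x = y := by
    have hbij : Function.Surjective (Matrix.toLin' (C₀ + EN Φ)) := by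
      refine fun v => ⟨Matrix.mulVec (C₀ + EN Φ)⁻¹ v, ?_⟩
      rw [Matrix.toLin'_apply, Matrix.mulVec_mulVec, Matrix.mul_nonsing_inv _ ?_, Matrix.one_mulVec]
      simpa [Matrix.map_id'] using hs
    obtain ⟨v, hv⟩ := hbij (ι y)
    refine ⟨π v, ?_⟩
    have h1 := congrArg π hv
    have hπ : ∀ x, π (ι x) = x := LinearMap.congr_fun hπι
    rw [map_add, LinearMap.add_apply, map_add] at h1
    simpa [C₀, EN, hπ, Matrix.toLin'_one] using h1
  obtain ⟨x, rfl⟩ := hy
  refine ⟨∑ b, s (Fin.natAdd p b) • G b x, ?_⟩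
  simp only [Φ, LinearMap.sum_apply, LinearMap.smul_apply, LinearMap.comp_apply, LinearMap.coe_restrictScalars,
    map_sum, DistribSMul.toLinearMap_apply]
  rw [Finset.sum_comm]
  refine Finset.sum_congr rfl fun a _ => Finset.sum_congr rfl fun b _ => ?_
  show F a (s (Fin.castAdd q a) • s (Fin.natAdd p b) • G b x) = _
  rw [LinearMap.map_smul_of_tower, LinearMap.map_smul_of_tower, smul_smul]

end Groth.Agent.LGLib
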