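import Groth.Agent.LGLib.Basic

/-!
# Ranks of modules: consequences over LG-rings
-/

namespace Groth.Agent.LGLib

universe u v w

variable {R : Type u} [CommRing R]

theorem rankAtStalk_pos (M : Type v) [AddCommGroup M] [Module R M] [Module.Finite R M] [Module.Projective R M]
    [FaithfulSMul R M] (p : PrimeSpectrum R) : 0 < Module.rankAtStalk M p := by
  rw [Module.rankAtStalk_pos_iff_mem_support, Module.support_eq_zeroLocus,
    Module.annihilator_eq_bot.2 inferInstance]
  simp

/-- Projective modules with the same ranks over an LG-ring are isomorphic. -/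
theorem nonempty_linearEquiv (hR : LGRing.IsLGRing R) (M N : Type v) [AddCommGroup M] [Module R M]
    [Module.Finite R M] [Module.Projective R M] [AddCommGroup N] [Module R N] [Module.Finite R N]
    [Module.Projective R N] (h : ∀ p : PrimeSpectrum R, Module.rankAtStalk M p = Module.rankAtStalk N p) :
    Nonempty (M ≃ₗ[R] N) :=
  equiv_of_rank (A := R) hR M N fun m hm => (h ⟨m, hm.isPrime⟩).symm

end Groth.Agent.LGLib
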