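import Groth.Agent.LGLib.Rank
import Groth.Agent.CSA.Azumaya
import Groth.Agent.S16598

/-!
# Azumaya algebras over LG-rings: cancellation through rank one corners
-/

namespace Groth.Agent.LGLib

open scoped TensorProduct

universe u v w

variable {R : Type u} [CommRing R]

theorem rankAtStalk_end (P : Type v) [AddCommGroup P] [Module R P] [Module.Finite R P] [Module.Projective R P]
    (q : PrimeSpectrum R) :
    Module.rankAtStalk (Module.End R P) q = Module.rankAtStalk P q * Module.rankAtStalk P q := by
  rw [show Module.rankAtStalk (R := R) (Module.End R P) = Module.rankAtStalk (Module.Dual R P ⊗[R] P) from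
    Module.rankAtStalk_eq_of_equiv (M := Module.End R P) (N := Module.Dual R P ⊗[R] P)
      (dualTensorHomEquiv R P P).symm, Module.rankAtStalk_tensorProduct,
    Pi.mul_apply, Groth.Agent.OTLib.rankAtStalk_dual]

section Corner

variable {A : Type v} [Ring A] [Algebra R A] {P : Type w} [AddCommGroup P] [Module R P]
  (f : P →ₗ[R] R) (m : P)

/-- Contraction of the second factor. -/
noncomputable def ev : A ⊗[R] Module.End R P →ₗ[R] A :=
  (TensorProduct.rid R A).toLinearMap.comp ((f.comp (LinearMap.applyₗ m)).lTensor A)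

theorem ev_tmul (a : A) (φ : Module.End R P) : ev (A := A) f m (a ⊗ₜ φ) = f (φ m) • a := by
  simp [ev]

theorem corner (X : A ⊗[R] Module.End R P) :
    ((1 : A) ⊗ₜ[R] f.smulRight m) * X * ((1 : A) ⊗ₜ[R] f.smulRight m) =
      ev f m X ⊗ₜ[R] f.smulRight m := by
  induction X using TensorProduct.induction_on with
  | zero => simp
  | add x y hx hy => rw [mul_add, add_mul, hx, hy, map_add, TensorProduct.add_tmul]
  | tmul a φ =>
    rw [Algebra.TensorProduct.tmul_mul_tmul, Algebra.TensorProduct.tmul_mul_tmul, one_mul, mul_one, ev_tmul,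
      TensorProduct.smul_tmul]
    congr 1
    refine LinearMap.ext fun z => ?_
    simp [smul_smul, mul_comm]

theorem ev_corner (hfm : f m = 1) (a : A) : ev f m (a ⊗ₜ[R] f.smulRight m) = a := by
  simp [ev_tmul, hfm]

theorem left_ideal_equiv (hfm : f m = 1) (X : A ⊗[R] Module.End R P) :
    TensorProduct.map (LinearMap.id : A →ₗ[R] A) (LinearMap.smulRightₗ f)
        ((LinearMap.applyₗ m).lTensor A (X * ((1 : A) ⊗ₜ[R] f.smulRight m))) =
      X * ((1 : A) ⊗ₜ[R] f.smulRight m) := by
  induction X using TensorProduct.induction_on with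
  | zero => simp
  | add x y hx hy => rw [add_mul, map_add, map_add, hx, hy]
  | tmul a φ =>
    rw [Algebra.TensorProduct.tmul_mul_tmul, mul_one, LinearMap.lTensor_tmul, TensorProduct.map_tmul]
    simp only [LinearMap.id_apply]
    congr 1
    refine LinearMap.ext fun z => ?_
    simp [hfm, map_smul]

end Corner

/-- Cancellation: Brauer equivalent Azumaya algebras of the same rank are isomorphic. -/
theorem nonempty_algEquiv (hR : LGRing.IsLGRing R) (A B : Type v) [Ring A] [Algebra R A] [IsAzumaya R A]
    [Ring B] [Algebra R B] [IsAzumaya R B]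
    (hdeg : ∀ p : PrimeSpectrum R, Module.rankAtStalk A p = Module.rankAtStalk B p)
    (P Q : Type w) [AddCommGroup P] [Module R P] [Module.Finite R P] [Module.Projective R P] [FaithfulSMul R P]
    [AddCommGroup Q] [Module R Q] [Module.Finite R Q] [Module.Projective R Q] [FaithfulSMul R Q]
    (e : A ⊗[R] Module.End R P ≃ₐ[R] B ⊗[R] Module.End R Q) : Nonempty (A ≃ₐ[R] B) := by
  classical
  haveI := Groth.Agent.CSA.Azu.isAzumaya_end R P
  haveI := Groth.Agent.CSA.Azu.isAzumaya_end R Q
  haveI := Groth.Agent.CSA.Azu.isAzumaya_tensor R B (Module.End R Q)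
  obtain ⟨m, f, hfm⟩ := Groth.Agent.S16598.result hR P
  obtain ⟨y, χ, hχy⟩ := Groth.Agent.S16598.result hR Q
  -- the two idempotents
  let p : B ⊗[R] Module.End R Q := e ((1 : A) ⊗ₜ[R] f.smulRight m)
  let q : B ⊗[R] Module.End R Q := (1 : B) ⊗ₜ[R] χ.smulRight y
  have hp : p * p = p := by
    rw [← map_mul, Algebra.TensorProduct.tmul_mul_tmul, one_mul]
    exact congrArg (fun φ => e ((1 : A) ⊗ₜ[R] φ)) (LinearMap.ext fun z => by simp [hfm])
  have hq : q * q = q := by
    rw [Algebra.TensorProduct.tmul_mul_tmul, one_mul]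
    exact congrArg (fun φ => (1 : B) ⊗ₜ[R] φ) (LinearMap.ext fun z => by simp [hχy])
  let C := B ⊗[R] Module.End R Q
  let M : Submodule C C := LinearMap.range (LinearMap.toSpanSingleton C C p)
  let N : Submodule C C := LinearMap.range (LinearMap.toSpanSingleton C C q)
  have hM : ∀ x ∈ M, x * p = x := by rintro _ ⟨c, rfl⟩; show c * p * p = c * p; rw [mul_assoc, hp]
  have hN : ∀ x ∈ N, x * q = x := by rintro _ ⟨c, rfl⟩; show c * q * q = c * q; rw [mul_assoc, hq]
  haveI : Module.Projective C M := Module.Projective.of_split M.subtype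
    (LinearMap.toSpanSingleton C C p).rangeRestrict (LinearMap.ext fun x => Subtype.ext (hM x.1 x.2))
  haveI : Module.Projective C N := Module.Projective.of_split N.subtype
    (LinearMap.toSpanSingleton C C q).rangeRestrict (LinearMap.ext fun x => Subtype.ext (hN x.1 x.2))
  haveI : Module.Finite C M := Module.Finite.of_surjective _ (LinearMap.surjective_rangeRestrict _)
  haveI : Module.Finite C N := Module.Finite.of_surjective _ (LinearMap.surjective_rangeRestrict _)
  have hcard : ∀ s : PrimeSpectrum R, Module.rankAtStalk P s = Module.rankAtStalk Q s := fun s => by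
    have h := congrFun (Module.rankAtStalk_eq_of_equiv e.toLinearEquiv) s
    rw [Module.rankAtStalk_tensorProduct, Module.rankAtStalk_tensorProduct, Pi.mul_apply, Pi.mul_apply,
      rankAtStalk_end, rankAtStalk_end, hdeg] at h
    have h2 := Nat.eq_of_mul_eq_mul_left (rankAtStalk_pos B s) h
    exact Nat.pow_left_injective two_ne_zero (by simpa [sq] using h2)
  let ΦA : A ⊗[R] P →ₗ[R] A ⊗[R] Module.End R P := TensorProduct.map LinearMap.id (LinearMap.smulRightₗ f)
  let ΦB : B ⊗[R] Q →ₗ[R] B ⊗[R] Module.End R Q := TensorProduct.map LinearMap.id (LinearMap.smulRightₗ χ)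
  have hΦA : ∀ z, e (ΦA z) ∈ M := fun z => ⟨e (ΦA z), by
    show e (ΦA z) * e ((1 : A) ⊗ₜ[R] f.smulRight m) = e (ΦA z)
    rw [← map_mul]
    congr 1
    induction z using TensorProduct.induction_on with
    | zero => simp
    | add a b ha hb => rw [map_add, add_mul, ha, hb]
    | tmul a x =>
      simp only [ΦA, TensorProduct.map_tmul, LinearMap.id_apply, Algebra.TensorProduct.tmul_mul_tmul, mul_one]
      exact congrArg (fun φ => a ⊗ₜ[R] φ) (LinearMap.ext fun w => by simp [hfm])⟩
  have hΦB : ∀ z, ΦB z ∈ N := fun z => ⟨ΦB z, by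
    show ΦB z * ((1 : B) ⊗ₜ[R] χ.smulRight y) = ΦB z
    induction z using TensorProduct.induction_on with
    | zero => simp
    | add a b ha hb => rw [map_add, add_mul, ha, hb]
    | tmul a x =>
      simp only [ΦB, TensorProduct.map_tmul, LinearMap.id_apply, Algebra.TensorProduct.tmul_mul_tmul, mul_one]
      exact congrArg (fun φ => a ⊗ₜ[R] φ) (LinearMap.ext fun w => by simp [hχy])⟩
  have hleftA : ∀ z, (LinearMap.applyₗ m).lTensor A (ΦA z) = z := fun z => by
    induction z using TensorProduct.induction_on with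
    | zero => simp
    | add a b ha hb => rw [map_add, map_add, ha, hb]
    | tmul a x => simp [ΦA, hfm]
  have hleftB : ∀ z, (LinearMap.applyₗ y).lTensor B (ΦB z) = z := fun z => by
    induction z using TensorProduct.induction_on with
    | zero => simp
    | add a b ha hb => rw [map_add, map_add, ha, hb]
    | tmul a x => simp [ΦB, hχy]
  let eM : A ⊗[R] P ≃ₗ[R] M := LinearEquiv.ofBijective
    ((e.toLinearMap.comp ΦA).codRestrict (M.restrictScalars R) hΦA)
    ⟨fun a b h => by rw [← hleftA a, ← hleftA b, e.injective (congrArg Subtype.val h)], fun x => by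
      refine ⟨(LinearMap.applyₗ m).lTensor A (e.symm x.1), Subtype.ext (show e (ΦA _) = x.1 from ?_)⟩
      have hx : e.symm x.1 = e.symm x.1 * ((1 : A) ⊗ₜ[R] f.smulRight m) := e.injective (by
        rw [map_mul, e.apply_symm_apply]; exact (hM x.1 x.2).symm)
      rw [hx, left_ideal_equiv f m hfm, ← hx, e.apply_symm_apply]⟩
  let eN : B ⊗[R] Q ≃ₗ[R] N := LinearEquiv.ofBijective (ΦB.codRestrict (N.restrictScalars R) hΦB)
    ⟨fun a b h => by rw [← hleftB a, ← hleftB b, show ΦB a = ΦB b from congrArg Subtype.val h], fun x => by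
      refine ⟨(LinearMap.applyₗ y).lTensor B x.1, Subtype.ext (show ΦB _ = x.1 from ?_)⟩
      have hx : x.1 = x.1 * ((1 : B) ⊗ₜ[R] χ.smulRight y) := (hN x.1 x.2).symm
      rw [hx, left_ideal_equiv χ y hχy, ← hx]⟩
  obtain ⟨φ⟩ := equiv_of_rank (A := C) hR M N fun I hI => by
    have h₁ := congrFun (Module.rankAtStalk_eq_of_equiv (M := B ⊗[R] Q) (N := N) eN) ⟨I, inferInstance⟩
    have h₂ := congrFun (Module.rankAtStalk_eq_of_equiv (M := A ⊗[R] P) (N := M) eM) ⟨I, inferInstance⟩
    rw [← h₁, ← h₂, Module.rankAtStalk_tensorProduct, Module.rankAtStalk_tensorProduct, Pi.mul_apply,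
      Pi.mul_apply, hdeg, hcard]
  let p' : M := ⟨p, p, hp⟩
  let q' : N := ⟨q, q, hq⟩
  let u : C := (φ p').1
  let v : C := (φ.symm q').1
  have hup : u * q = u := hN _ (φ p').2
  have hvp : v * p = v := hM _ (φ.symm q').2
  have hpu : p * u = u := congrArg Subtype.val (show p • φ p' = φ p' by
    rw [← map_smul]; exact congrArg φ (Subtype.ext hp))
  have hqv : q * v = v := congrArg Subtype.val (show q • φ.symm q' = φ.symm q' by
    rw [← map_smul]; exact congrArg φ.symm (Subtype.ext hq))
  have huv : u * v = p := congrArg Subtype.val (show u • φ.symm q' = p' by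
    rw [← map_smul, show u • q' = φ p' from Subtype.ext hup, φ.symm_apply_apply])
  have hvu : v * u = q := congrArg Subtype.val (show v • φ p' = q' by
    rw [← map_smul, show v • p' = φ.symm q' from Subtype.ext hvp, φ.apply_symm_apply])
  -- the isomorphism
  let X : A → C := fun a => e (a ⊗ₜ[R] f.smulRight m)
  have hX : ∀ a, p * X a = X a ∧ X a * p = X a := fun a => by
    have hmm : f.smulRight m * f.smulRight m = f.smulRight m := LinearMap.ext fun z => by simp [hfm]
    constructor <;> simp only [X, p, ← map_mul, Algebra.TensorProduct.tmul_mul_tmul, one_mul, mul_one, hmm]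
  have hXmul : ∀ a b, X (a * b) = X a * X b := fun a b => by
    simp only [X, ← map_mul, Algebra.TensorProduct.tmul_mul_tmul]
    congr 2
    exact LinearMap.ext fun z => by simp [hfm]
  let g : A →ₗ[R] B :=
    (ev χ y).comp ((LinearMap.mulLeftRight R (v, u)).comp
      (e.toLinearMap.comp ((TensorProduct.mk R A (Module.End R P)).flip (f.smulRight m))))
  have hg : ∀ a, v * X a * u = g a ⊗ₜ[R] χ.smulRight y := fun a => by
    have : q * (v * X a * u) * q = v * X a * u := by
      rw [← mul_assoc, ← mul_assoc, hqv, mul_assoc (v * X a) u q, hup]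
    rw [← this, corner]
    rfl
  have hgmul : ∀ a b, g (a * b) = g a * g b := fun a b => by
    have h : g (a * b) ⊗ₜ[R] χ.smulRight y = (g a * g b) ⊗ₜ[R] χ.smulRight y := by
      rw [← hg, hXmul]
      calc v * (X a * X b) * u = v * (X a * (u * v) * X b) * u := by rw [huv, (hX a).2]
        _ = (v * X a * u) * (v * X b * u) := by simp only [mul_assoc]
        _ = (g a * g b) ⊗ₜ[R] (χ.smulRight y * χ.smulRight y) := by
          rw [hg, hg, Algebra.TensorProduct.tmul_mul_tmul]
        _ = _ := congrArg (fun z => (g a * g b) ⊗ₜ[R] z) (LinearMap.ext fun z => by simp [hχy])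
    simpa [ev_corner χ y hχy] using congrArg (ev χ y) h
  have hgone : g 1 = 1 := by
    have h : g 1 ⊗ₜ[R] χ.smulRight y = (1 : B) ⊗ₜ[R] χ.smulRight y := by
      rw [← hg]
      show v * p * u = q
      rw [hvp, hvu]
    simpa [ev_corner χ y hχy] using congrArg (ev χ y) h
  let G : A →ₐ[R] B := AlgHom.ofLinearMap g hgone hgmul
  have hinj : Function.Injective g := fun a b h => by
    have hu : ∀ c, u * (v * X c * u) * v = X c := fun c => by
      calc u * (v * X c * u) * v = (u * v) * X c * (u * v) := by simp only [mul_assoc]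
        _ = X c := by rw [huv, (hX c).1, (hX c).2]
    have h2 : X a = X b := by rw [← hu a, ← hu b, hg, hg, h]
    have h3 := congrArg (ev f m) (e.injective h2)
    rwa [ev_corner f m hfm, ev_corner f m hfm] at h3
  have hsurj : Function.Surjective g := fun b => by
    let Z : C := u * (b ⊗ₜ[R] χ.smulRight y) * v
    have hZ : p * Z * p = Z := by
      simp only [Z]
      rw [← mul_assoc p, ← mul_assoc p, hpu, mul_assoc _ v p, hvp]
    refine ⟨ev f m (e.symm Z), ?_⟩
    have hXZ : X (ev f m (e.symm Z)) = Z := by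
      show e _ = Z
      rw [← corner, map_mul, map_mul, e.apply_symm_apply]
      exact hZ
    have h : g (ev f m (e.symm Z)) ⊗ₜ[R] χ.smulRight y = b ⊗ₜ[R] χ.smulRight y := by
      rw [← hg, hXZ]
      calc v * Z * u = (v * u) * (b ⊗ₜ[R] χ.smulRight y) * (v * u) := by simp only [Z, mul_assoc]
        _ = _ := by
          rw [hvu, corner, ev_corner χ y hχy]
    simpa [ev_corner χ y hχy] using congrArg (ev χ y) h
  exact ⟨AlgEquiv.ofBijective G ⟨hinj, hsurj⟩⟩

end Groth.Agent.LGLib
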